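import Cfsg.Agent.H616.TI.Defs
import Cfsg.Agent.LFourB.ProdAut
import Cfsg.Agent.S0120
import Cfsg.Agent.S0016
import Cfsg.Agent.PermutationGroups.AutQuaternion
import Cfsg.Agent.TwoFusion.LocalIndex
import Cfsg.Agent.Omega.Sec.Basic

/-!
# `GoalCyc` : groups with TI Sylow `p`-subgroups all of whose abelian subgroups are cyclic (helper833)
-/

set_option autoImplicit false

namespace Cfsg.Agent.H833.TI

open Subgroup Cfsg
open Cfsg.Agent.H666.TI (IsTI)
open Cfsg.Agent.H616.TI

universe u

/-- a `p`-group is cyclic or quaternion if `zpowers z`, `z` central of order `p`, contains all elements of order `p` -/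
theorem cyclic_or {P : Type u} [Group P] [Finite P] {p : ℕ} [Fact p.Prime] (hP : IsPGroup p P) {z : P}
    (hz : orderOf z = p) (h : ∀ y : P, y ^ p = 1 → y ∈ zpowers z) :
    IsCyclic P ∨ (p = 2 ∧ ∃ n : ℕ, Nonempty (P ≃* QuaternionGroup (2 ^ n))) := by
  refine Cfsg.Agent.S0016.result p hP ?_
  have key : ∀ H : Subgroup P, Nat.card H = p → H = zpowers z := by
    intro H hH
    have hle : H ≤ zpowers z := by
      intro x hx
      apply h
      have : (⟨x, hx⟩ : H) ^ Nat.card H = 1 := pow_card_eq_one'
      rw [hH] at this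
      exact congrArg Subtype.val this
    refine eq_of_le_of_card_ge hle ?_
    rw [hH, Nat.card_zpowers, hz]
  intro H K hH hK
  rw [key H hH, key K hK]

/-- an automorphism of odd order fixing a subgroup of index 2 pointwise is trivial -/
theorem eq_one_of_index_two {P : Type u} [Group P] [Finite P] (hP : IsPGroup 2 P) (a : MulAut P) {n : ℕ}
    (hn : Odd n) (ha : a ^ n = 1) {F : Subgroup P} (hF : ∀ x, x ∈ F ↔ a x = x) (hi : F.index = 2) : a = 1 := by
  ext x
  rw [MulAut.one_apply]
  have h1 : x⁻¹ * a x ∈ F := by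
    rw [mul_mem_iff_of_index_two hi, inv_mem_iff, hF, hF]
    exact ⟨fun h => by rw [h, h], fun h => a.injective h⟩
  obtain ⟨f, hf⟩ : ∃ f, f = x⁻¹ * a x := ⟨_, rfl⟩
  rw [← hf] at h1
  have hax : a x = x * f := by rw [hf]; group
  have haf : a f = f := (hF f).1 h1
  have h2 : ∀ k : ℕ, (a ^ k) x = x * f ^ k := by
    intro k
    induction k with
    | zero => simp
    | succ k ih => rw [pow_succ', MulAut.mul_apply, ih, map_mul, map_pow, haf, hax, mul_assoc, ← pow_succ']
  have h3 := h2 n
  rw [ha, MulAut.one_apply] at h3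
  have h4 : f ^ n = 1 := by
    have := h3.symm
    rwa [mul_eq_left] at this
  obtain ⟨k, hk⟩ := hP f
  have h5 : orderOf f ∣ 1 := by
    have h6 : Nat.Coprime (2 ^ k) n := Nat.Coprime.pow_left k ((Nat.coprime_two_left).2 hn)
    rw [← h6.gcd_eq_one]
    exact Nat.dvd_gcd (orderOf_dvd_of_pow_eq_one hk) (orderOf_dvd_of_pow_eq_one h4)
  have h6 : f = 1 := orderOf_eq_one_iff.1 (Nat.dvd_one.1 h5)
  rw [hax, h6, mul_one]

theorem mul_eq_one_of_odd {P : Type u} [Group P] [Finite P] [IsCyclic P] (hP : IsPGroup 2 P) (a : MulAut P) {n : ℕ}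
    (hn : Odd n) (ha : a ^ n = 1) : a = 1 := by
  obtain ⟨k, hk⟩ := IsPGroup.iff_card.1 hP
  have h1 : orderOf a ∣ Nat.card (MulAut P) := orderOf_dvd_natCard a
  rw [IsCyclic.card_mulAut, hk] at h1
  have h2 : orderOf a ∣ 2 ^ k := by
    rcases Nat.eq_zero_or_pos k with rfl | hk0
    · exact h1
    · rw [Nat.totient_prime_pow Nat.prime_two hk0] at h1
      refine h1.trans ?_
      rw [show (2 - 1 : ℕ) = 1 from rfl, mul_one]
      exact pow_dvd_pow 2 (Nat.sub_le k 1)
  have h6 : Nat.Coprime (2 ^ k) n := Nat.Coprime.pow_left k ((Nat.coprime_two_left).2 hn)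
  have h5 : orderOf a ∣ 1 := by
    rw [← h6.gcd_eq_one]
    exact Nat.dvd_gcd h2 (orderOf_dvd_of_pow_eq_one ha)
  exact orderOf_eq_one_iff.1 (Nat.dvd_one.1 h5)

theorem cent_le {G : Type u} [Group G] {p : ℕ} [Fact p.Prime] [Finite G] (hTI : IsTI p G) (P : Sylow p G)
    {z : G} (hz : z ∈ P) (hz1 : z ≠ 1) : centralizer ({z} : Set G) ≤ normalizer ((P : Subgroup G) : Set G) := by
  intro g hg
  have h1 : g * z = z * g := by
    rw [mem_centralizer_iff] at hg
    exact (hg z rfl).symm
  have h2 : g • P = P := by
    refine hTI.sylow_eq (x := z) ?_ hz hz1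
    change z ∈ ((g • P : Sylow p G) : Subgroup G)
    rw [Sylow.coe_subgroup_smul, Subgroup.mem_pointwise_smul_iff_inv_smul_mem]
    have h3 : (MulAut.conj g)⁻¹ • z = z := by
      rw [← map_inv]
      change g⁻¹ * z * g⁻¹⁻¹ = z
      rw [inv_inv, mul_assoc, ← h1, ← mul_assoc, inv_mul_cancel, one_mul]
    rw [h3]
    exact hz
  exact Sylow.smul_eq_iff_mem_normalizer.1 h2

/-- **CYC** -/
theorem result : Cfsg.Agent.H616.TI.GoalCyc.{u} := by
  intro G _ _ p hp hTI P hP hno
  have hpp : p.Prime := hp.out
  have hPp : IsPGroup p (P : Subgroup G) := P.isPGroup'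
  have hnt : Nontrivial (P : Subgroup G) := (Subgroup.nontrivial_iff_ne_bot _).2 hP
  have hcn : Nontrivial (center (P : Subgroup G)) := hPp.center_nontrivial
  obtain ⟨z₁, hz₁⟩ : ∃ z : center (P : Subgroup G), orderOf z = p := by
    have h1 : IsPGroup p (center (P : Subgroup G)) := hPp.to_subgroup _
    obtain ⟨n, hn, hcard⟩ := (IsPGroup.nontrivial_iff_card h1).1 hcn
    refine exists_prime_orderOf_dvd_card' p ?_
    rw [hcard]
    exact dvd_pow_self p (by omega)
  obtain ⟨z₀, hz₀⟩ : ∃ z₀ : (P : Subgroup G), z₀ = (z₁ : (P : Subgroup G)) := ⟨_, rfl⟩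
  have hz₀c : ∀ y : (P : Subgroup G), z₀ * y = y * z₀ := fun y => by
    rw [hz₀]; exact ((mem_center_iff.1 z₁.2) y).symm
  have ho : orderOf z₀ = p := by rw [hz₀, Subgroup.orderOf_coe, hz₁]
  have hz₀1 : z₀ ≠ 1 := by
    intro h
    rw [h, orderOf_one] at ho
    exact hpp.one_lt.ne ho
  have hz₀p : z₀ ^ p = 1 := orderOf_dvd_iff_pow_eq_one.1 (dvd_of_eq ho)
  -- the elements of order `p`
  have hall : ∀ y : (P : Subgroup G), y ^ p = 1 → y ∈ zpowers z₀ := by
    intro y hy
    by_contra hn
    obtain ⟨h1, h2, h3⟩ := Cfsg.Agent.Omega.Sec.Basic.card_pair hz₀p hz₀1 hy (hz₀c y) hn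
    apply hno
    refine ⟨(closure ({z₀, y} : Set (P : Subgroup G))).map (P : Subgroup G).subtype, ?_, ?_, ?_⟩
    · rintro _ ⟨x, -, rfl⟩
      exact x.2
    · refine ⟨⟨?_⟩⟩
      rintro ⟨_, a, ha, rfl⟩ ⟨_, b, hb, rfl⟩
      apply Subtype.ext
      change ((a : (P : Subgroup G)) : G) * (b : G) = (b : G) * (a : G)
      exact congrArg Subtype.val (h1 a ha b hb)
    · rintro ⟨⟨g, hg⟩, hgen⟩
      have h4 : Nat.card ((closure ({z₀, y} : Set (P : Subgroup G))).map (P : Subgroup G).subtype) =
          Nat.card (closure ({z₀, y} : Set (P : Subgroup G))) :=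
        Nat.card_congr (Subgroup.equivMapOfInjective _ _ (P : Subgroup G).subtype_injective).toEquiv.symm
      have h5 : orderOf (⟨g, hg⟩ : ((closure ({z₀, y} : Set (P : Subgroup G))).map (P : Subgroup G).subtype)) =
          Nat.card ((closure ({z₀, y} : Set (P : Subgroup G))).map (P : Subgroup G).subtype) :=
        orderOf_eq_card_of_forall_mem_zpowers hgen
      have h6 : (⟨g, hg⟩ : ((closure ({z₀, y} : Set (P : Subgroup G))).map (P : Subgroup G).subtype)) ^ p = 1 := by
        obtain ⟨x, hx, rfl⟩ := hg
        apply Subtype.ext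
        change ((x : (P : Subgroup G)) : G) ^ p = 1
        exact congrArg Subtype.val (h2 x hx)
      have h7 := Nat.le_of_dvd hpp.pos (orderOf_dvd_of_pow_eq_one h6)
      rw [h5, h4] at h7
      have h8 : p * 2 ≤ p * p := Nat.mul_le_mul_left p hpp.two_le
      have h9 := hpp.pos
      rw [pow_two] at h3
      omega
  set z : G := (z₀ : G) with hz
  have hzP : z ∈ P := z₀.2
  have hz1 : z ≠ 1 := fun h => hz₀1 (Subtype.ext h)
  have hzC : z ∈ centralizer ((P : Subgroup G) : Set G) := by
    rw [mem_centralizer_iff]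
    intro y hy
    exact (congrArg Subtype.val (hz₀c ⟨y, hy⟩)).symm
  have hDN := cent_le hTI P hzP hz1
  refine ⟨z, hzP, hz1, hzC, fun g hg hgp hgC => ?_⟩
  have hgN := hDN hg
  set a : MulAut (P : Subgroup G) := (P : Subgroup G).normalizerMonoidHom ⟨g, hgN⟩ with ha
  have hav : ∀ x : (P : Subgroup G), ((a x : (P : Subgroup G)) : G) = g * x * g⁻¹ := fun x => rfl
  have ha1 : a ≠ 1 := by
    intro h
    apply hgC
    rw [mem_centralizer_iff]
    intro x hx
    have h2 : ((a ⟨x, hx⟩ : (P : Subgroup G)) : G) = x := by rw [h]; rfl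
    rw [hav] at h2
    exact (mul_inv_eq_iff_eq_mul.1 h2).symm
  have han : a ^ orderOf g = 1 := by
    rw [ha, ← map_pow]
    have : (⟨g, hgN⟩ : normalizer ((P : Subgroup G) : Set G)) ^ orderOf g = 1 :=
      Subtype.ext (pow_orderOf_eq_one g)
    rw [this, map_one]
  have hcop : Nat.Coprime (orderOf a) p :=
    Nat.Coprime.coprime_dvd_left (orderOf_dvd_of_pow_eq_one han)
      (Nat.Coprime.symm ((Nat.Prime.coprime_iff_not_dvd hpp).2 hgp))
  have haz : a z₀ = z₀ := by
    apply Subtype.ext
    rw [hav]
    rw [mem_centralizer_iff] at hg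
    exact mul_inv_eq_iff_eq_mul.2 (hg z rfl).symm
  by_cases hp2 : p = 2
  · subst hp2
    have hodd : Odd (orderOf g) := by
      rw [← Nat.not_even_iff_odd, even_iff_two_dvd]
      exact hgp
    rcases cyclic_or hPp ho hall with hc | ⟨-, k, ⟨e⟩⟩
    · exact absurd (mul_eq_one_of_odd hPp a hodd han) ha1
    · have hk : k = 1 := by
        by_contra hk
        rcases Nat.lt_or_ge k 2 with h2 | h2
        · have hk0 : k = 0 := by omega
          subst hk0
          have hc : IsCyclic (P : Subgroup G) := by
            have h3 : IsCyclic (QuaternionGroup (2 ^ 0)) := by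
              rw [pow_zero]
              exact QuaternionGroup.quaternionGroup_one_isCyclic
            exact isCyclic_of_surjective e.symm.toMonoidHom e.symm.surjective
          exact ha1 (mul_eq_one_of_odd hPp a hodd han)
        · exact ha1 (Cfsg.Agent.LFourB.ProdAut.eq_one_of_odd' h2 e a hodd han)
      subst hk
      rw [pow_one] at e
      have hP8 : Nat.card (P : Subgroup G) = 8 := by
        rw [Nat.card_congr e.toEquiv, Nat.card_eq_fintype_card, QuaternionGroup.card]
      have hA24 : Nat.card (MulAut (P : Subgroup G)) = 24 := by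
        rw [Nat.card_congr (MulAut.congr e).toEquiv]
        exact Cfsg.Agent.PermutationGroups.AutQuaternion.card_mulAut
      -- the fixed points
      have hfix : Nat.card ↥((P : Subgroup G) ⊓ centralizer ({g} : Set G)) ≤ 2 := by
        set F : Subgroup (P : Subgroup G) := (centralizer ({g} : Set G)).subgroupOf (P : Subgroup G) with hF
        have hFm : ∀ x, x ∈ F ↔ a x = x := by
          intro x
          rw [hF, mem_subgroupOf, mem_centralizer_iff]
          constructor
          · intro h
            apply Subtype.ext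
            rw [hav, mul_inv_eq_iff_eq_mul]
            exact h g rfl
          · rintro h _ rfl
            have h2 := congrArg Subtype.val h
            rw [hav, mul_inv_eq_iff_eq_mul] at h2
            exact h2
        have h1 : Nat.card ↥((P : Subgroup G) ⊓ centralizer ({g} : Set G)) = Nat.card F := by
          rw [inf_comm, ← Subgroup.subgroupOf_map_subtype]
          exact (Nat.card_congr (Subgroup.equivMapOfInjective _ _ (P : Subgroup G).subtype_injective).toEquiv).symm
        rw [h1]
        have h2 : Nat.card F * F.index = 8 := by rw [card_mul_index, hP8]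
        have h3 : F.index ≠ 1 := by
          intro h3
          apply ha1
          ext x
          rw [MulAut.one_apply]
          rw [index_eq_one] at h3
          rw [(hFm x).1 (by rw [h3]; exact mem_top x)]
        have h4 : F.index ≠ 2 := fun h4 => ha1 (eq_one_of_index_two hPp a hodd han hFm h4)
        have h5 : F.index ≠ 0 := index_ne_zero_of_finite
        by_contra hcon
        push Not at hcon
        have h6 : 3 * F.index ≤ Nat.card F * F.index := Nat.mul_le_mul_right _ hcon
        omega
      have hidx : autIdx (P : Subgroup G) z ≤ 3 := by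
        have h1 : autIdx (P : Subgroup G) z ∣ 24 := by
          unfold autIdx
          have h2 : ((P : Subgroup G) ⊔ centralizer ((P : Subgroup G) : Set G)).relIndex
              (centralizer ({z} : Set G)) ∣ (centralizer ((P : Subgroup G) : Set G)).relIndex
              (centralizer ({z} : Set G)) := relIndex_dvd_of_le_left _ le_sup_right
          have h3 : (centralizer ((P : Subgroup G) : Set G)).relIndex (centralizer ({z} : Set G)) ∣
              (centralizer ((P : Subgroup G) : Set G)).relIndex (normalizer ((P : Subgroup G) : Set G)) := by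
            have hle : centralizer ((P : Subgroup G) : Set G) ≤ centralizer ({z} : Set G) :=
              centralizer_le (by rintro _ rfl; exact hzP)
            exact Dvd.intro _ (relIndex_mul_relIndex _ _ _ hle hDN)
          have h4 := Cfsg.Agent.TwoFusion.LocalIndex.relIndex_centralizer_dvd (P : Subgroup G)
          rw [hA24] at h4
          exact (h2.trans h3).trans h4
        have h2 : ¬ 2 ∣ autIdx (P : Subgroup G) z := by
          intro h2
          unfold autIdx at h2
          have h3 : ((P : Subgroup G) ⊔ centralizer ((P : Subgroup G) : Set G)).relIndex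
              (centralizer ({z} : Set G)) ∣ (P : Subgroup G).relIndex (centralizer ({z} : Set G)) :=
            relIndex_dvd_of_le_left _ le_sup_left
          have h4 : (P : Subgroup G) ≤ centralizer ({z} : Set G) := by
            intro y hy
            rw [mem_centralizer_iff]
            rintro _ rfl
            exact (congrArg Subtype.val (hz₀c ⟨y, hy⟩))
          have h5 : (P : Subgroup G).relIndex (centralizer ({z} : Set G)) ∣ (P : Subgroup G).index :=
            relIndex_dvd_index_of_le h4
          exact P.not_dvd_index (h2.trans (h3.trans h5))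
        have h3 : autIdx (P : Subgroup G) z ∣ 3 := by
          have h4 : Nat.Coprime (autIdx (P : Subgroup G) z) 8 := by
            have : Nat.Coprime (autIdx (P : Subgroup G) z) (2 ^ 3) :=
              Nat.Coprime.pow_right 3 (Nat.Coprime.symm ((Nat.Prime.coprime_iff_not_dvd Nat.prime_two).2 h2))
            simpa using this
          exact h4.dvd_of_dvd_mul_left (by simpa using h1)
        exact Nat.le_of_dvd (by norm_num) h3
      rw [hP8]
      calc (autIdx (P : Subgroup G) z + 1) * Nat.card ↥((P : Subgroup G) ⊓ centralizer ({g} : Set G))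
          ≤ (3 + 1) * 2 := Nat.mul_le_mul (by omega) hfix
        _ = 8 := rfl
  · exfalso
    apply ha1
    refine Cfsg.Agent.S0120.result hp2 hPp a hcop ?_
    intro x hx
    obtain ⟨i, rfl⟩ := mem_zpowers_iff.1 (hall x hx)
    rw [map_zpow, haz]

end Cfsg.Agent.H833.TI
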